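import Groth.Agent.S3627
import Groth.Agent.GorLib.RingLevel
import Groth.Agent.FlatDescent.AlgSpLocus
import Groth.Agent.AlgSpPts.NoethSp
import Groth.Agent.HenselLib.FaithfulDescent
import Groth.Agent.AlgSpLib.FibreProduct
import Groth.Prelude.Def_Dual3
import Groth.Prelude.Def_AlgSpDec

/-!
# Gorenstein at a point for morphisms of algebraic spaces
-/

set_option autoImplicit false
set_option backward.isDefEq.respectTransparency.types false

universe u

open CategoryTheory CategoryTheory.Limits AlgebraicGeometry Opposite AlgSp Groth.Agent.AlgSpLib IsLocalRing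
  Groth.FlatDescent

namespace Groth.Agent.GorPoint

theorem gorenstein_of_isField {A : Type u} [CommRing A] (h : IsField A) : LocCoh.IsGorensteinLocalRing A := by
  letI := h.toField
  haveI := Groth.Agent.GorLib.isGorensteinRing_field A
  haveI := LocCoh.IsGorensteinRing.isGorensteinLocalRing_localization (A := A) (⊥ : Ideal A)
  exact SegreOne.isGorensteinLocalRing_of_ringEquiv
    (IsLocalization.atUnits A (⊥ : Ideal A).primeCompl
      (S := Localization.AtPrime (⊥ : Ideal A)) (fun x hx => isUnit_iff_ne_zero.2 hx)).symm.toRingEquiv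

/-- The local criterion for an unramified flat extension of quotients. -/
theorem gor_quot_iff {B C : Type u} [CommRing B] [CommRing C] [IsLocalRing B] [IsLocalRing C] (ψ : B →+* C)
    [IsLocalHom ψ] (hψ : ψ.Flat) (hmax : (maximalIdeal B).map ψ = maximalIdeal C) (I : Ideal B) (hI : I ≤ maximalIdeal B)
    (hN : IsNoetherianRing (B ⧸ I) → IsNoetherianRing (C ⧸ I.map ψ)) :
    LocCoh.IsGorensteinLocalRing (C ⧸ I.map ψ) ↔ LocCoh.IsGorensteinLocalRing (B ⧸ I) := by
  let J := I.map ψ
  have hJ : J ≤ maximalIdeal C := (Ideal.map_mono hI).trans hmax.le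
  haveI : Nontrivial (B ⧸ I) :=
    Ideal.Quotient.nontrivial_iff.mpr (ne_top_of_le_ne_top (maximalIdeal.isMaximal B).ne_top hI)
  haveI : Nontrivial (C ⧸ J) :=
    Ideal.Quotient.nontrivial_iff.mpr (ne_top_of_le_ne_top (maximalIdeal.isMaximal C).ne_top hJ)
  haveI : IsLocalRing (B ⧸ I) := IsLocalRing.of_surjective' (Ideal.Quotient.mk I) Ideal.Quotient.mk_surjective
  haveI : IsLocalRing (C ⧸ J) := IsLocalRing.of_surjective' (Ideal.Quotient.mk J) Ideal.Quotient.mk_surjective
  let θ : B ⧸ I →+* C ⧸ J := Ideal.quotientMap J ψ Ideal.le_comap_map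
  have hθ : θ.Flat := flat_of_surjective_of_ker ψ hψ (Ideal.Quotient.mk I) Ideal.Quotient.mk_surjective
    (Ideal.Quotient.mk J) Ideal.Quotient.mk_surjective (by rw [Ideal.mk_ker, Ideal.mk_ker]) θ (RingHom.ext fun _ => rfl)
  letI := θ.toAlgebra
  haveI : Module.Flat (B ⧸ I) (C ⧸ J) := hθ
  haveI : IsLocalHom (algebraMap (B ⧸ I) (C ⧸ J)) := ⟨fun a ha => by
    obtain ⟨b, rfl⟩ := Ideal.Quotient.mk_surjective a
    haveI : IsLocalHom (Ideal.Quotient.mk J) := IsLocalHom.of_surjective _ Ideal.Quotient.mk_surjective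
    exact (isUnit_of_map_unit ψ b (isUnit_of_map_unit (Ideal.Quotient.mk J) (ψ b) ha)).map _⟩
  haveI : Module.FaithfullyFlat (B ⧸ I) (C ⧸ J) := .of_flat_of_isLocalHom
  have hfib : LocCoh.IsGorensteinLocalRing (Groth.Agent.FlatAscent.Fib (B ⧸ I) (C ⧸ J)) := by
    refine gorenstein_of_isField ((Ideal.Quotient.maximal_ideal_iff_isField_quotient _).1 ?_)
    have : (maximalIdeal (B ⧸ I)).map (algebraMap (B ⧸ I) (C ⧸ J)) = maximalIdeal (C ⧸ J) := by
      rw [← IsLocalRing.map_maximalIdeal_of_surjective (Ideal.Quotient.mk I) Ideal.Quotient.mk_surjective,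
        ← IsLocalRing.map_maximalIdeal_of_surjective (Ideal.Quotient.mk J) Ideal.Quotient.mk_surjective,
        ← hmax, Ideal.map_map, Ideal.map_map]
      rfl
    rw [this]
    exact maximalIdeal.isMaximal _
  constructor
  · intro h
    haveI : IsNoetherianRing (C ⧸ J) := inferInstance
    haveI : IsNoetherianRing (B ⧸ I) := Groth.Agent.HenselLib.isNoetherianRing_of_faithfullyFlat (R := B ⧸ I) (S := C ⧸ J)
    exact ((Groth.Agent.GorLib.gorenstein_iff_of_flat (B ⧸ I) (C ⧸ J)).1 h).1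
  · intro h
    haveI : IsNoetherianRing (C ⧸ J) := hN inferInstance
    exact (Groth.Agent.GorLib.gorenstein_iff_of_flat (B ⧸ I) (C ⧸ J)).2 ⟨h, hfib⟩

theorem map_maximalIdeal_stalkMap {X Y : Scheme.{u}} (f : X ⟶ Y) [LocallyOfFiniteType f] [FormallyUnramified f]
    (x : X) : (maximalIdeal (Y.presheaf.stalk (f x))).map (f.stalkMap x).hom = maximalIdeal (X.presheaf.stalk x) := by
  algebraize [(f.stalkMap x).hom]
  have : IsLocalHom (algebraMap (Y.presheaf.stalk (f x)) (X.presheaf.stalk x)) :=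
    inferInstanceAs <| IsLocalHom (f.stalkMap x).hom
  have : Algebra.EssFiniteType (Y.presheaf.stalk (f x)) (X.presheaf.stalk x) := by
    rw [← RingHom.essFiniteType_algebraMap, RingHom.algebraMap_toAlgebra]
    exact LocallyOfFiniteType.stalkMap f x
  have : Algebra.FormallyUnramified (Y.presheaf.stalk (f x)) (X.presheaf.stalk x) := by
    rw [← RingHom.formallyUnramified_algebraMap, RingHom.algebraMap_toAlgebra]
    exact FormallyUnramified.stalkMap f x
  exact Algebra.FormallyUnramified.map_maximalIdeal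

theorem maxExt_le {X Y : Scheme.{u}} (f : X ⟶ Y) (x : X) : maxExt f x ≤ maximalIdeal (X.presheaf.stalk x) :=
  ((local_hom_TFAE (f.stalkMap x).hom).out 0 2 rfl rfl).mp (inferInstanceAs (IsLocalHom (f.stalkMap x).hom))

theorem gor_congr_hom {X Y : Scheme.{u}} {f g : X ⟶ Y} (h : f = g) (x : X) :
    Dual3.IsGorensteinAt f x ↔ Dual3.IsGorensteinAt g x := by subst h; rfl

/-- Etale on the source. -/
theorem gor_comp_etale_left {T U V : Scheme.{u}} (p : T ⟶ U) [Etale p] (i : U ⟶ V) (t : T) :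
    Dual3.IsGorensteinAt (p ≫ i) t ↔ Dual3.IsGorensteinAt i (p t) := by
  rw [S3627.isGorensteinAt_iff, S3627.isGorensteinAt_iff, S4656.result p i t (Flat.stalkMap p t), maxExt_comp]
  refine and_congr_right' (gor_quot_iff (p.stalkMap t).hom (Flat.stalkMap p t) (map_maximalIdeal_stalkMap p t)
    (maxExt i (p t)) (maxExt_le i (p t)) fun hN => ?_)
  let ψ := (p.stalkMap t).hom
  let θ := Ideal.quotientMap ((maxExt i (p t)).map ψ) ψ Ideal.le_comap_map
  letI := θ.toAlgebra
  haveI : Algebra.EssFiniteType (U.presheaf.stalk (p t) ⧸ maxExt i (p t))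
      (T.presheaf.stalk t ⧸ (maxExt i (p t)).map ψ) := by
    have h1 : ((Ideal.Quotient.mk ((maxExt i (p t)).map ψ)).comp ψ).EssFiniteType :=
      (LocallyOfFiniteType.stalkMap p t).comp
        (RingHom.FiniteType.of_surjective _ Ideal.Quotient.mk_surjective).essFiniteType
    rw [show (Ideal.Quotient.mk ((maxExt i (p t)).map ψ)).comp ψ = θ.comp (Ideal.Quotient.mk _) from
      RingHom.ext fun _ => rfl] at h1
    exact h1.of_comp
  exact Algebra.EssFiniteType.isNoetherianRing (U.presheaf.stalk (p t) ⧸ maxExt i (p t)) _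

/-- Etale on the target. -/
theorem gor_comp_etale_right {T V V' : Scheme.{u}} (l : T ⟶ V) (r : V ⟶ V') [Etale r] (t : T) :
    Dual3.IsGorensteinAt (l ≫ r) t ↔ Dual3.IsGorensteinAt l t := by
  rw [S3627.isGorensteinAt_iff, S3627.isGorensteinAt_iff]
  have hm : maxExt (l ≫ r) t = maxExt l t := by
    rw [maxExt_comp]
    unfold maxExt
    rw [map_maximalIdeal_stalkMap]
  rw [hm]
  refine and_congr_left' ⟨flat_stalkMap_of_comp_etale l r t, fun h => ?_⟩
  exact flat_stalkMap_comp l r t h (Flat.stalkMap r _)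

variable {S : Scheme.{u}}

/-- One chart suffices. -/
theorem locPAt_iff {F G : Sp S} {f : F ⟶ G} {U V : Over S} {a : (yon S).obj U ⟶ F} {b : (yon S).obj V ⟶ G}
    {i : U ⟶ V} (ha : RepWith @Etale a) (hb : RepWith @Etale b) (w : a ≫ f = (yon S).map i ≫ b) (u : ↥U.left) :
    LocPAt (fun h u => Dual3.IsGorensteinAt h u) f (Points.ofPt a u) ↔ Dual3.IsGorensteinAt i.left u := by
  refine ⟨fun h => h a b i u ha hb w rfl, fun hu => ?_⟩
  intro U' V' a' b' i' u' ha' hb' w' e
  obtain ⟨W₁, p, p', sq⟩ := exists_isPullback ha.1 a'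
  haveI : Etale p.left := prop_snd sq.flip ha'
  haveI : Etale p'.left := prop_snd sq ha
  obtain ⟨W₂, r, r', sq₂⟩ := exists_isPullback hb.1 b'
  haveI : Etale r.left := prop_snd sq₂.flip hb'
  haveI : Etale r'.left := prop_snd sq₂ hb
  have he : (yon S).map (p ≫ i) ≫ b = (yon S).map (p' ≫ i') ≫ b' := by
    simp only [Functor.map_comp, Category.assoc, ← w, ← w']
    simp only [← Category.assoc, sq.w]
  obtain ⟨l, hl, hl'⟩ := exists_lift sq₂ ((yon S).map (p ≫ i)) (p' ≫ i') he
  have hl₂ : l ≫ r = p ≫ i := (yon S).map_injective (by rw [Functor.map_comp]; exact hl)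
  obtain ⟨t, ht, ht'⟩ := (ofPt_eq_iff sq u u').1 e.symm
  show Dual3.IsGorensteinAt i'.left u'
  have h₁ : Dual3.IsGorensteinAt (p.left ≫ i.left) t := (gor_comp_etale_left p.left i.left t).2 (by rw [ht]; exact hu)
  have h₂ : Dual3.IsGorensteinAt l.left t :=
    (gor_comp_etale_right l.left r.left t).1 ((gor_congr_hom (congrArg CommaMorphism.left hl₂) t).2 h₁)
  have h₃ : Dual3.IsGorensteinAt (p'.left ≫ i'.left) t :=
    (gor_congr_hom (congrArg CommaMorphism.left hl') t).1 ((gor_comp_etale_right l.left r'.left t).2 h₂)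
  exact ht' ▸ (gor_comp_etale_left p'.left i'.left t).1 h₃

/-- Charts of morphisms with locally Noetherian fibres have locally Noetherian fibres. -/
theorem isLocallyNoetherian_fibre_chart {X Y : AlgSp.Space S} {f : X ⟶ Y}
    (hf : ∀ (k : AlgSp.FieldPt Y.obj) (Xk : AlgSp.Sp S) (a : Xk ⟶ X.obj) (b : Xk ⟶ (AlgSp.yon S).obj k.pt),
        IsPullback a b f.hom k.toHom → AlgSp.IsLocNoethSp Xk)
    {U V : Over S} {a : (yon S).obj U ⟶ X.obj} {b : (yon S).obj V ⟶ Y.obj} {i : U ⟶ V}
    (ha : RepWith @Etale a) (hb : RepWith @Etale b) (w : a ≫ f.hom = (yon S).map i ≫ b) (v : ↥V.left) :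
    IsLocallyNoetherian (i.left.fiber v) := by
  let ι : Over.mk (V.left.fromSpecResidueField v ≫ V.hom) ⟶ V := Over.homMk (V.left.fromSpecResidueField v) rfl
  have sqP := IsPullback.of_hasPullback f.hom ((yon S).map ι ≫ b)
  obtain ⟨UT, fU, sT, sqy⟩ := exists_isPullback (representable_yon_map i) ((yon S).map ι)
  have sqU := isPullback_of_yon sqy
  obtain ⟨a', ha', -, -⟩ := exists_etale_fibre_chart Y.property f.hom a b i ι ha hb w sqP sqU
  have hN : IsLocNoethSp (pullback f.hom ((yon S).map ι ≫ b)) := by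
    refine hf (FieldPt.ofPt b v) _ (pullback.fst f.hom ((yon S).map ι ≫ b)) (pullback.snd f.hom ((yon S).map ι ≫ b)) ?_
    rw [FieldPt.toHom_ofPt]
    exact sqP
  haveI := Groth.Agent.AlgSpPts.isLocallyNoetherian_of_chart hN ha'
  exact isLocallyNoetherian_of_isOpenImmersion (left_isPullback sqU).isoPullback.inv

theorem isNoetherianRing_fibre_chart {X Y : AlgSp.Space S} {f : X ⟶ Y}
    (hf : ∀ (k : AlgSp.FieldPt Y.obj) (Xk : AlgSp.Sp S) (a : Xk ⟶ X.obj) (b : Xk ⟶ (AlgSp.yon S).obj k.pt),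
        IsPullback a b f.hom k.toHom → AlgSp.IsLocNoethSp Xk)
    {U V : Over S} {a : (yon S).obj U ⟶ X.obj} {b : (yon S).obj V ⟶ Y.obj} {i : U ⟶ V}
    (ha : RepWith @Etale a) (hb : RepWith @Etale b) (w : a ≫ f.hom = (yon S).map i ≫ b) (u : ↥U.left) :
    IsNoetherianRing (U.left.presheaf.stalk u ⧸ maxExt i.left u) :=
  Groth.FlatDescent.CM.isNoetherianRing_fibre i.left u (isLocallyNoetherian_fibre_chart hf ha hb w _)

end Groth.Agent.GorPoint
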